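import Mathlib

/-!
The locus where two morphisms into an unramified scheme agree.
-/

set_option autoImplicit false
universe u
open CategoryTheory CategoryTheory.Limits AlgebraicGeometry

namespace Groth.Agent.EqLocusLib

variable {X Y S : Scheme.{u}} (p : Y ⟶ S) [FormallyUnramified p] [LocallyOfFiniteType p]
  (f g : X ⟶ Y)

/-- The agreement locus is open and the morphisms agree on it; it contains every agreement of points. -/
theorem exists_eqLocus (w : f ≫ p = g ≫ p) : ∃ V : X.Opens, V.ι ≫ f = V.ι ≫ g ∧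
    (∀ {T : Scheme.{u}} (t : T ⟶ X), t ≫ f = t ≫ g → ∀ a, t a ∈ V) ∧ (IsSeparated p → IsClosed (V : Set X)) := by
  let j := pullback.lift f g w
  let Δ := pullback.diagonal p
  refine ⟨j ⁻¹ᵁ Δ.opensRange, ?_, ?_, ?_⟩
  · let V := j ⁻¹ᵁ Δ.opensRange
    let l : (V : Scheme.{u}) ⟶ Y := IsOpenImmersion.lift Δ (V.ι ≫ j) (by
      rintro _ ⟨x, rfl⟩
      exact x.2)
    have hl : l ≫ Δ = V.ι ≫ j := IsOpenImmersion.lift_fac ..
    have h1 : l = V.ι ≫ f := by
      calc l = (l ≫ Δ) ≫ pullback.fst p p := by rw [Category.assoc]; exact (Category.comp_id l).symm.trans (by rw [pullback.diagonal_fst])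
        _ = (V.ι ≫ j) ≫ pullback.fst p p := by rw [hl]
        _ = V.ι ≫ f := (Category.assoc _ _ _).trans (congrArg _ (pullback.lift_fst ..))
    have h2 : l = V.ι ≫ g := by
      calc l = (l ≫ Δ) ≫ pullback.snd p p := by rw [Category.assoc]; exact (Category.comp_id l).symm.trans (by rw [pullback.diagonal_snd])
        _ = (V.ι ≫ j) ≫ pullback.snd p p := by rw [hl]
        _ = V.ι ≫ g := (Category.assoc _ _ _).trans (congrArg _ (pullback.lift_snd ..))
    exact h1.symm.trans h2
  · intro T t ht a
    refine ⟨(t ≫ f) a, ?_⟩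
    rw [← Scheme.Hom.comp_apply, ← Scheme.Hom.comp_apply, show (t ≫ f) ≫ Δ = t ≫ j from
      pullback.hom_ext
        (by rw [Category.assoc, Category.assoc, pullback.diagonal_fst, Category.comp_id]
            exact congrArg (t ≫ ·) (pullback.lift_fst ..).symm)
        (by rw [Category.assoc, Category.assoc, pullback.diagonal_snd, Category.comp_id]
            exact ht.trans (congrArg (t ≫ ·) (pullback.lift_snd ..).symm))]
  · intro hp
    exact (Δ.isClosedEmbedding.isClosed_range).preimage j.continuous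

theorem exists_nhd_of_point (x : X) (h : X.fromSpecResidueField x ≫ f = X.fromSpecResidueField x ≫ g)
    (w : f ≫ p = g ≫ p) : ∃ U : X.Opens, x ∈ U ∧ U.ι ≫ f = U.ι ≫ g := by
  obtain ⟨V, h1, h2, -⟩ := exists_eqLocus p f g w
  refine ⟨V, ?_, h1⟩
  obtain ⟨a, ha⟩ : x ∈ Set.range (X.fromSpecResidueField x) := by rw [Scheme.range_fromSpecResidueField]; rfl
  exact ha ▸ h2 _ h a

theorem fromSpecResidueField_eq (x : X) (h1 : f x = g x)
    (h2 : f.residueFieldMap x = (Y.residueFieldCongr h1).hom ≫ g.residueFieldMap x) :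
    X.fromSpecResidueField x ≫ f = X.fromSpecResidueField x ≫ g := by
  rw [← Scheme.Hom.SpecMap_residueFieldMap_fromSpecResidueField, ← Scheme.Hom.SpecMap_residueFieldMap_fromSpecResidueField,
    h2, Spec.map_comp, Category.assoc, Scheme.residueFieldCongr_fromSpecResidueField]

end Groth.Agent.EqLocusLib
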